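import Groth.Agent.S10830
import Groth.Agent.TopDimLib.Basic
import Mathlib.Topology.JacobsonSpace

/-! The topological core of the rigidity of families of cycles. -/

set_option autoImplicit false
set_option linter.all false

universe u

open TopologicalSpace Topology Set

namespace Groth.Agent.CycRigidLib

theorem eq_of_subset_of_le_dim {X : Type u} [TopologicalSpace X] {C K : Set X} {d : ℕ}
    (hC : IsClosed C) (hK : IsIrreducible K) (hCK : C ⊆ K)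
    (hKd : topologicalKrullDim ↥K ≤ d) (hCd : (d : WithBot ℕ∞) ≤ topologicalKrullDim ↥C) : C = K := by
  haveI : IrreducibleSpace ↥K := Subtype.irreducibleSpace hK
  by_contra hne
  have hne' : (Subtype.val ⁻¹' C : Set K) ≠ univ := fun h =>
    hne (hCK.antisymm fun x hx => (eq_univ_iff_forall.1 h ⟨x, hx⟩ : _))
  have hfin : topologicalKrullDim ↥K ≠ ⊤ := fun h => by
    rw [h, top_le_iff] at hKd
    exact ENat.coe_ne_top d (WithBot.coe_eq_coe.1 (show ((d : ℕ∞) : WithBot ℕ∞) = ((⊤ : ℕ∞) : WithBot ℕ∞) from hKd))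
  have h1 := Groth.Agent.S10830.result ↥K hfin _ (hC.preimage continuous_subtype_val) hne'
  let f : ↥C → ↥(Subtype.val ⁻¹' C : Set K) := fun c => ⟨⟨c.1, hCK c.2⟩, c.2⟩
  have hf : IsInducing f := by
    refine IsInducing.of_comp (by fun_prop) (continuous_subtype_val.comp continuous_subtype_val) ?_
    exact IsInducing.subtypeVal
  exact lt_irrefl _ ((hCd.trans hf.topologicalKrullDim_le).trans_lt (h1.trans_le hKd))

/-- A point of local dimension at least `d` lies on a closed irreducible set of dimension at least `d`. -/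
theorem exists_irreducible_of_le_localDim {T : Type u} [TopologicalSpace T] [NoetherianSpace T] (z : T)
    (d : ℕ) (h : (d : WithBot ℕ∞) ≤ FlatMor.localDim T z) :
    ∃ C : Set T, IsClosed C ∧ IsIrreducible C ∧ z ∈ C ∧ (d : WithBot ℕ∞) ≤ topologicalKrullDim ↥C := by
  have hfin : (irreducibleComponents T).Finite := NoetherianSpace.finite_irreducibleComponents
  let S : Set (Set T) := {C ∈ irreducibleComponents T | z ∉ C}
  have hS : IsClosed (⋃₀ S) := by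
    rw [sUnion_eq_biUnion]
    exact (hfin.subset fun _ h => h.1).isClosed_biUnion fun C hC => isClosed_of_mem_irreducibleComponents C hC.1
  let U : Opens T := ⟨(⋃₀ S)ᶜ, hS.isOpen_compl⟩
  have hzU : z ∈ U := fun ⟨C, hC, hzC⟩ => hC.2 hzC
  have hd : (d : WithBot ℕ∞) ≤ topologicalKrullDim ↥(U : Set T) :=
    h.trans (iInf_le_of_le ⟨U, hzU⟩ le_rfl)
  let ι' := {C // C ∈ irreducibleComponents T ∧ z ∈ C}
  haveI : Finite ι' := ((hfin.subset (fun _ h => h.1) : {C | C ∈ irreducibleComponents T ∧ z ∈ C}.Finite)).to_subtype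
  let Y : ι' → Set ↥(U : Set T) := fun C => Subtype.val ⁻¹' C.1
  have hcov : ⋃ i, Y i = univ := eq_univ_of_forall fun v => by
    obtain ⟨C, hC, hvC⟩ := mem_sUnion.1 (sUnion_irreducibleComponents (X := T) ▸ mem_univ v.1)
    exact mem_iUnion.2 ⟨⟨C, hC, by_contra fun hz => v.2 ⟨C, ⟨hC, hz⟩, hvC⟩⟩, hvC⟩
  haveI : Nonempty ι' := ⟨⟨irreducibleComponent z, irreducibleComponent_mem_irreducibleComponents z,
    mem_irreducibleComponent⟩⟩
  rw [TopDimLib.topologicalKrullDim_eq_iSup_closed Y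
    (fun i => (isClosed_of_mem_irreducibleComponents _ i.2.1).preimage continuous_subtype_val)
    (locallyFinite_of_finite _) hcov] at hd
  obtain ⟨i, hi⟩ := Finite.exists_max fun i => topologicalKrullDim ↥(Y i)
  refine ⟨i.1, isClosed_of_mem_irreducibleComponents _ i.2.1, i.2.1.1, i.2.2, (hd.trans (iSup_le hi)).trans ?_⟩
  let g : ↥(Y i) → ↥i.1 := fun v => ⟨v.1.1, v.2⟩
  have hg : IsInducing g := by
    refine IsInducing.of_comp (by fun_prop) continuous_subtype_val ?_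
    show IsInducing ((Subtype.val : ↥(U : Set T) → T) ∘ (Subtype.val : ↥(Y i) → ↥(U : Set T)))
    exact IsInducing.subtypeVal.comp IsInducing.subtypeVal
  exact hg.topologicalKrullDim_le

/-- The rigidity statement, in terms of topological spaces. -/
theorem subset_of_rigid {P X Y : Type u} [TopologicalSpace P] [TopologicalSpace X] [TopologicalSpace Y]
    [JacobsonSpace P] [JacobsonSpace X] [JacobsonSpace Y] [NoetherianSpace X]
    (p : P → X) (q : P → Y) (hp : Continuous p) (hq : Continuous q)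
    (s : X → Y → P) (hs : ∀ x, IsClosed ({x} : Set X) → Continuous (s x))
    (hst : ∀ x y, IsClosed ({x} : Set X) → IsClosed ({y} : Set Y) → p (s x y) = x ∧ q (s x y) = y)
    (hz : ∀ z, IsClosed ({z} : Set P) → IsClosed ({p z} : Set X) ∧ IsClosed ({q z} : Set Y) ∧ s (p z) (q z) = z)
    {n : ℕ} (Z : Fin n → Set P) (hZ : ∀ i, IsClosed (Z i)) (d : ℕ)
    (hopen : ∀ i (O : Set P), IsOpen O → IsOpen (q '' (Z i ∩ O)))
    (B : Set Y) (hB : IsClosed B) (hBc : IsPreconnected B)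
    (hF : IsClosed (p '' ((⋃ i, Z i) ∩ q ⁻¹' B)))
    (hFd : topologicalKrullDim ↥(p '' ((⋃ i, Z i) ∩ q ⁻¹' B)) ≤ d)
    (hloc : ∀ i z, z ∈ Z i → IsClosed ({z} : Set P) → ∃ C : Set X, IsClosed C ∧ IsIrreducible C ∧ p z ∈ C ∧
      (d : WithBot ℕ∞) ≤ topologicalKrullDim ↥C ∧
      ∀ c ∈ C, IsClosed ({c} : Set X) → s c (q z) ∈ Z i) :
    p ⁻¹' (p '' ((⋃ i, Z i) ∩ q ⁻¹' B)) ∩ q ⁻¹' B ⊆ ⋃ i, Z i := by
  set F := p '' ((⋃ i, Z i) ∩ q ⁻¹' B) with hFdef
  have hZu : IsClosed (⋃ i, Z i) := isClosed_iUnion_of_finite hZ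
  obtain ⟨S, hSfin, hScl, hSirr, hSF⟩ := NoetherianSpace.exists_finite_set_isClosed_irreducible hF
  have hSd : ∀ K ∈ S, topologicalKrullDim ↥K ≤ d := fun K hK =>
    ((IsEmbedding.inclusion (show K ⊆ F from hSF ▸ subset_sUnion_of_mem hK)).isInducing.topologicalKrullDim_le).trans hFd
  let S' : Set (Set X) := {K ∈ S | (d : WithBot ℕ∞) ≤ topologicalKrullDim ↥K}
  -- the cycle through a closed point of `Z` over `B` is a member of `S'`
  have hC : ∀ i z, z ∈ Z i → IsClosed ({z} : Set P) → q z ∈ B →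
      ∃ K ∈ S', p z ∈ K ∧ ∀ c ∈ K, IsClosed ({c} : Set X) → s c (q z) ∈ Z i := by
    intro i z hzi hzc hzB
    obtain ⟨C, hCcl, hCirr, hpz, hCd, hCs⟩ := hloc i z hzi hzc
    have hCF : C ⊆ F := by
      rw [← JacobsonSpace.closure_inter_closedPoints_eq_closure hCcl.isLocallyClosed |>.trans hCcl.closure_eq]
      refine closure_minimal (fun c hc => ?_) hF
      obtain ⟨h1, h2⟩ := hst c (q z) hc.2 (hz z hzc).2.1
      exact ⟨s c (q z), ⟨mem_iUnion.2 ⟨i, hCs c hc.1 hc.2⟩, by rwa [mem_preimage, h2]⟩, h1⟩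
    classical
    obtain ⟨K, hK, hCK⟩ := isIrreducible_iff_sUnion_isClosed.1 hCirr hSfin.toFinset
      (fun K hK => hScl K (hSfin.mem_toFinset.1 hK)) (by rw [Finite.coe_toFinset, ← hSF]; exact hCF)
    rw [Finite.mem_toFinset] at hK
    obtain rfl := eq_of_subset_of_le_dim hCcl (hSirr K hK) hCK (hSd K hK) hCd
    exact ⟨C, ⟨hK, hCd⟩, hpz, hCs⟩
  have hcov : ∀ x ∈ F, IsClosed ({x} : Set X) → ∃ K ∈ S', x ∈ K := by
    intro x hx hxc
    have hne : ((⋃ i, Z i) ∩ q ⁻¹' B ∩ p ⁻¹' {x}).Nonempty := by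
      obtain ⟨w, hw, rfl⟩ := hx
      exact ⟨w, hw, rfl⟩
    obtain ⟨w, ⟨⟨hwZ, hwB⟩, hwx⟩, hwc⟩ := nonempty_inter_closedPoints hne
      (((hZu.inter (hB.preimage hq)).inter (hxc.preimage hp)).isLocallyClosed)
    obtain ⟨i, hi⟩ := mem_iUnion.1 hwZ
    obtain ⟨K, hK, hpK, -⟩ := hC i w hi hwc hwB
    exact ⟨K, hK, (show p w = x from hwx) ▸ hpK⟩
  have key : ∀ K ∈ S', ∀ y ∈ B, ∀ x ∈ K, IsClosed ({x} : Set X) → s x y ∈ ⋃ i, Z i := by
    intro K hK
    let rest : Set X := ⋃₀ {K' ∈ S' | K' ≠ K}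
    have hrest : IsClosed rest := by
      show IsClosed (⋃₀ _)
      rw [sUnion_eq_biUnion]
      exact (hSfin.subset fun _ h => h.1.1).isClosed_biUnion fun K' hK' => hScl K' hK'.1.1
    have hKne : (K ∩ restᶜ).Nonempty := by
      by_contra h
      classical
      have hsub : K ⊆ rest := fun x hx => by_contra fun hx' => h ⟨x, hx, hx'⟩
      obtain ⟨K', hK', hKK'⟩ := isIrreducible_iff_sUnion_isClosed.1 (hSirr K hK.1)
        (hSfin.subset (fun _ h => h.1.1) : {K' ∈ S' | K' ≠ K}.Finite).toFinset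
        (fun K' hK' => hScl K' ((Finite.mem_toFinset _).1 hK').1.1)
        (by rw [Finite.coe_toFinset]; exact hsub)
      rw [Finite.mem_toFinset] at hK'
      exact hK'.2 (eq_of_subset_of_le_dim (hScl K hK.1) (hSirr K' hK'.1.1) hKK' (hSd K' hK'.1.1) hK.2).symm
    obtain ⟨x₀, ⟨hx₀K, hx₀r⟩, hx₀c⟩ :=
      nonempty_inter_closedPoints hKne ((hScl K hK.1).isLocallyClosed.inter hrest.isOpen_compl.isLocallyClosed)
    have hKeq : ∀ K' ∈ S', ∀ x ∈ K', x ∉ rest → K' = K := fun K' hK' x hx hxr =>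
      by_contra fun h => hxr ⟨K', ⟨hK', h⟩, hx⟩
    let E : Set Y := B ∩ ⋂ (x : X) (_ : x ∈ K) (_ : IsClosed ({x} : Set X)), s x ⁻¹' (⋃ i, Z i)
    have hE : IsClosed E :=
      hB.inter (isClosed_iInter fun x => isClosed_iInter fun _ => isClosed_iInter fun hx => hZu.preimage (hs x hx))
    have hEmem : ∀ y, y ∈ E ↔ y ∈ B ∧ ∀ x ∈ K, IsClosed ({x} : Set X) → s x y ∈ ⋃ i, Z i := fun y => by
      simp only [E, mem_inter_iff, mem_iInter, mem_preimage]
    let O : Set Y := ⋃₀ {V | IsOpen V ∧ V ∩ B ⊆ E}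
    have hO : IsOpen O := isOpen_sUnion fun V hV => hV.1
    have hOE : O ∩ B ⊆ E := fun y ⟨⟨V, hV, hyV⟩, hyB⟩ => hV.2 ⟨hyV, hyB⟩
    have hEO : E ⊆ O := by
      by_contra h
      obtain ⟨y, ⟨hyE, hyO⟩, hyc⟩ := nonempty_inter_closedPoints (Z := E ∩ Oᶜ)
        (nonempty_of_not_subset h) (hE.inter hO.isClosed_compl).isLocallyClosed
      obtain ⟨hyB, hyZ⟩ := (hEmem y).1 hyE
      obtain ⟨i, hi⟩ := mem_iUnion.1 (hyZ x₀ hx₀K hx₀c)
      obtain ⟨h1, h2⟩ := hst x₀ y hx₀c hyc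
      let V := q '' (Z i ∩ p ⁻¹' restᶜ)
      have hV : IsOpen V := hopen i _ (hrest.isOpen_compl.preimage hp)
      have hyV : y ∈ V := ⟨s x₀ y, ⟨hi, by rwa [mem_preimage, h1]⟩, h2⟩
      refine hyO ⟨V, ⟨hV, ?_⟩, hyV⟩
      refine subset_closure.trans ?_
      rw [← JacobsonSpace.closure_inter_closedPoints_eq_closure (hV.isLocallyClosed.inter hB.isLocallyClosed)]
      refine closure_minimal (fun y' hy' => ?_) hE
      obtain ⟨⟨⟨w, hw, hwy⟩, hy'B⟩, hy'c⟩ := hy'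
      obtain ⟨w', ⟨⟨hw'Z, hw'r⟩, hw'y⟩, hw'c⟩ := nonempty_inter_closedPoints
        (Z := Z i ∩ p ⁻¹' restᶜ ∩ q ⁻¹' {y'}) ⟨w, hw, hwy⟩
        (((hZ i).isLocallyClosed.inter (hrest.isOpen_compl.preimage hp).isLocallyClosed).inter
          (hy'c.preimage hq).isLocallyClosed)
      have hqy : q w' = y' := hw'y
      obtain ⟨K', hK', hpK', hsK'⟩ := hC i w' hw'Z hw'c (hqy.symm ▸ hy'B)
      obtain rfl := hKeq K' hK' _ hpK' hw'r
      exact (hEmem y').2 ⟨hy'B, fun x hx hxc => mem_iUnion.2 ⟨i, hqy ▸ hsK' x hx hxc⟩⟩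
    have hEne : E.Nonempty := by
      have hxF : x₀ ∈ F := hSF ▸ ⟨K, hK.1, hx₀K⟩
      obtain ⟨w₀, hw₀, hw₀x⟩ := hxF
      obtain ⟨w, ⟨⟨hwZ, hwB⟩, hwx⟩, hwc⟩ := nonempty_inter_closedPoints
        (Z := (⋃ i, Z i) ∩ q ⁻¹' B ∩ p ⁻¹' {x₀}) ⟨w₀, hw₀, hw₀x⟩
        (((hZu.inter (hB.preimage hq)).inter (hx₀c.preimage hp)).isLocallyClosed)
      obtain ⟨i, hi⟩ := mem_iUnion.1 hwZ
      obtain ⟨K', hK', hpK', hsK'⟩ := hC i w hi hwc hwB
      obtain rfl := hKeq K' hK' _ hpK' (by rw [show p w = x₀ from hwx]; exact hx₀r)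
      exact ⟨q w, (hEmem _).2 ⟨hwB, fun x hx hxc => mem_iUnion.2 ⟨i, hsK' x hx hxc⟩⟩⟩
    intro y hy
    refine ((hEmem y).1 ?_).2
    by_contra hyE
    obtain ⟨e, he⟩ := hEne
    obtain ⟨b, hbB, hbO, hbE⟩ := hBc O Eᶜ hO hE.isOpen_compl
      (fun b hb => (em (b ∈ E)).imp (fun h => hEO h) id) ⟨e, ((hEmem e).1 he).1, hEO he⟩ ⟨y, hy, hyE⟩
    exact hbE (hOE ⟨hbO, hbB⟩)
  intro z hzD
  by_contra hzn
  obtain ⟨w, ⟨⟨hwF, hwB⟩, hwn⟩, hwc⟩ := nonempty_inter_closedPoints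
    (Z := p ⁻¹' F ∩ q ⁻¹' B ∩ (⋃ i, Z i)ᶜ) ⟨z, hzD, hzn⟩
    (((hF.preimage hp).inter (hB.preimage hq)).isLocallyClosed.inter hZu.isOpen_compl.isLocallyClosed)
  obtain ⟨h1, h2, h3⟩ := hz w hwc
  obtain ⟨K, hK, hpK⟩ := hcov _ hwF h1
  exact hwn (h3 ▸ key K hK (q w) hwB (p w) hpK h1)

end Groth.Agent.CycRigidLib
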