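import Groth.Agent.CycRigidLib.Core
import Groth.Agent.S2568
import Groth.Agent.S3388
import Groth.Agent.S9812
import Groth.Agent.S16188
import Groth.Agent.FibreDimEt.Top
import Mathlib.AlgebraicGeometry.AlgClosed.Basic
import Groth.Prelude.Def_Pi1

/-! Rigidity of families of cycles over an algebraically closed field. -/

set_option autoImplicit false
set_option linter.all false
set_option backward.isDefEq.respectTransparency false
set_option backward.isDefEq.respectTransparency.types false

universe u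

open CategoryTheory CategoryTheory.Limits AlgebraicGeometry TopologicalSpace Topology Set

namespace Groth.Agent.CycRigidLib

variable {k : Type u} [Field k] [IsAlgClosed k] {X Y : Scheme.{u}}

theorem point_eq {P : Scheme.{u}} (f : P ⟶ Spec (.of k)) [LocallyOfFiniteType f] (z : P) (hz : IsClosed ({z} : Set P))
    (g : Spec (CommRingCat.of k) ⟶ P) (hg : g ≫ f = 𝟙 _) (h : g (IsLocalRing.closedPoint k) = z) :
    g = pointOfClosedPoint f z hz :=
  ext_of_apply_closedPoint_eq f hg (pointOfClosedPoint_comp f z hz) (by rw [pointOfClosedPoint_apply, h])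

variable (sX : X ⟶ Spec (CommRingCat.of k)) (sY : Y ⟶ Spec (CommRingCat.of k))
  [LocallyOfFiniteType sX] [LocallyOfFiniteType sY]

/-- `{x} × Y`. -/
noncomputable def secY (x : X) (hx : IsClosed ({x} : Set X)) : Y ⟶ pullback sX sY :=
  pullback.lift (sY ≫ pointOfClosedPoint sX x hx) (𝟙 Y) (by simp)

/-- `X × {y}`. -/
noncomputable def secX (y : Y) (hy : IsClosed ({y} : Set Y)) : X ⟶ pullback sX sY :=
  pullback.lift (𝟙 X) (sX ≫ pointOfClosedPoint sY y hy) (by simp)

/-- The rational point `(x, y)`. -/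
noncomputable def pair (x : X) (hx : IsClosed ({x} : Set X)) (y : Y) (hy : IsClosed ({y} : Set Y)) :
    Spec (CommRingCat.of k) ⟶ pullback sX sY :=
  pullback.lift (pointOfClosedPoint sX x hx) (pointOfClosedPoint sY y hy) (by simp)

theorem secY_apply (x : X) (hx : IsClosed ({x} : Set X)) (y : Y) (hy : IsClosed ({y} : Set Y)) :
    secY sX sY x hx y = pair sX sY x hx y hy (IsLocalRing.closedPoint k) := by
  have h : pointOfClosedPoint sY y hy ≫ secY sX sY x hx = pair sX sY x hx y hy := by
    refine pullback.hom_ext ?_ ?_ <;> simp [secY, pair]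
  rw [← h, Scheme.Hom.comp_apply, pointOfClosedPoint_apply]

theorem secX_apply (x : X) (hx : IsClosed ({x} : Set X)) (y : Y) (hy : IsClosed ({y} : Set Y)) :
    secX sX sY y hy x = pair sX sY x hx y hy (IsLocalRing.closedPoint k) := by
  have h : pointOfClosedPoint sX x hx ≫ secX sX sY y hy = pair sX sY x hx y hy := by
    refine pullback.hom_ext ?_ ?_ <;> simp [secX, pair]
  rw [← h, Scheme.Hom.comp_apply, pointOfClosedPoint_apply]

theorem pair_fst_snd (x : X) (hx : IsClosed ({x} : Set X)) (y : Y) (hy : IsClosed ({y} : Set Y)) :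
    pullback.fst sX sY (pair sX sY x hx y hy (IsLocalRing.closedPoint k)) = x ∧
      pullback.snd sX sY (pair sX sY x hx y hy (IsLocalRing.closedPoint k)) = y := by
  refine ⟨?_, ?_⟩ <;> rw [← Scheme.Hom.comp_apply] <;> simp [pair]

theorem closed_decomp [IsProper sX] [IsProper sY] (z : ↥(pullback sX sY))
    (hz : IsClosed ({z} : Set ↥(pullback sX sY))) :
    ∃ (hx : IsClosed ({pullback.fst sX sY z} : Set X)) (hy : IsClosed ({pullback.snd sX sY z} : Set Y)),
      pair sX sY _ hx _ hy (IsLocalRing.closedPoint k) = z := by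
  have hx : IsClosed ({pullback.fst sX sY z} : Set X) := by
    rw [← Set.image_singleton]; exact (pullback.fst sX sY).isClosedMap _ hz
  have hy : IsClosed ({pullback.snd sX sY z} : Set Y) := by
    rw [← Set.image_singleton]; exact (pullback.snd sX sY).isClosedMap _ hz
  refine ⟨hx, hy, ?_⟩
  let e := pointOfClosedPoint (pullback.fst sX sY ≫ sX) z hz
  have he : e ≫ pullback.fst sX sY ≫ sX = 𝟙 _ := pointOfClosedPoint_comp _ z hz
  have hez : e (IsLocalRing.closedPoint k) = z := pointOfClosedPoint_apply _ z hz _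
  have : pair sX sY _ hx _ hy = e := by
    refine pullback.hom_ext ?_ ?_
    · rw [pair, pullback.lift_fst]
      exact (point_eq sX _ hx _ (by rw [Category.assoc, he]) (by rw [Scheme.Hom.comp_apply, hez])).symm
    · rw [pair, pullback.lift_snd]
      refine (point_eq sY _ hy _ ?_ (by rw [Scheme.Hom.comp_apply, hez])).symm
      rw [Category.assoc, ← pullback.condition, he]
  rw [this, hez]

theorem range_secX [IsProper sX] [IsProper sY] (y : Y) (hy : IsClosed ({y} : Set Y)) :
    Set.range (secX sX sY y hy) = pullback.snd sX sY ⁻¹' {y} ∧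
      IsClosed (Set.range (secX sX sY y hy)) := by
  haveI : IsClosedImmersion (secX sX sY y hy ≫ pullback.fst sX sY) := by
    rw [secX, pullback.lift_fst]; infer_instance
  haveI : IsClosedImmersion (secX sX sY y hy) := IsClosedImmersion.of_comp _ (pullback.fst sX sY)
  have hcl := (secX sX sY y hy).isClosedEmbedding.isClosed_range
  haveI : JacobsonSpace ↥(pullback sX sY) := LocallyOfFiniteType.jacobsonSpace (pullback.fst sX sY ≫ sX)
  refine ⟨Subset.antisymm ?_ ?_, hcl⟩
  · rintro _ ⟨x, rfl⟩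
    show pullback.snd sX sY (secX sX sY y hy x) = y
    rw [← Scheme.Hom.comp_apply, secX, pullback.lift_snd, Scheme.Hom.comp_apply, pointOfClosedPoint_apply]
  · have hq := hy.preimage (pullback.snd sX sY).continuous
    rw [← hq.closure_eq, ← JacobsonSpace.closure_inter_closedPoints_eq_closure hq.isLocallyClosed]
    refine closure_minimal (fun z hz => ?_) hcl
    obtain ⟨hx, hy', e⟩ := closed_decomp sX sY z hz.2
    have h : pullback.snd sX sY z = y := hz.1
    subst h
    exact ⟨_, (secX_apply sX sY _ hx _ hy).trans e⟩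

theorem openMap_and_dim [IsIntegral Y] (hN : Pi1.IsNormalScheme Y)
    (d : ℕ) {n : ℕ} (Z : Fin n → Set ↥(pullback sX sY))
    (hZc : ∀ i, IsClosed (Z i)) (hZi : ∀ i, IsIrreducible (Z i))
    (hZs : ∀ i, (pullback.snd sX sY).base '' Z i = Set.univ)
    (hZd : ∀ i (y : Y), topologicalKrullDim ↥(Z i ∩ (pullback.snd sX sY).base ⁻¹' {y}) = d)
    (i : Fin n) : IsOpenMap (fun w : Z i => pullback.snd sX sY w.1) ∧
    ∀ v : Z i, (d : WithBot ℕ∞) ≤ FlatMor.localDim
      ↥((fun w : Z i => pullback.snd sX sY w.1) ⁻¹' {pullback.snd sX sY v.1}) ⟨v, rfl⟩ := by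
  let I := Scheme.IdealSheafData.vanishingIdeal (⟨Z i, hZc i⟩ : Closeds ↥(pullback sX sY))
  haveI : IsIntegral I.subscheme := Groth.Agent.S16188.isIntegral_vanishingIdeal (hZc i) (hZi i)
  have hr : Set.range I.subschemeι = Z i := by
    rw [Scheme.IdealSheafData.range_subschemeι, Scheme.IdealSheafData.coe_support_vanishingIdeal]; rfl
  let g : I.subscheme ⟶ Y := I.subschemeι ≫ pullback.snd sX sY
  let e : ↥I.subscheme ≃ₜ ↥(Z i) :=
    I.subschemeι.isClosedEmbedding.isEmbedding.toHomeomorph.trans (Homeomorph.setCongr hr)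
  have he : ∀ a, pullback.snd sX sY (e a).1 = g a := fun a => rfl
  have hsurj : Function.Surjective g := fun y => by
    obtain ⟨w, hw, hwy⟩ := (Set.eq_univ_iff_forall.1 (hZs i)) y
    refine ⟨e.symm ⟨w, hw⟩, ?_⟩
    rw [← he, e.apply_symm_apply]; exact hwy
  haveI : IsDominant g := ⟨hsurj.denseRange⟩
  haveI : LocallyOfFiniteType g := inferInstance
  let φ (y : Y) : ↥(g ⁻¹' {y}) ≃ₜ ↥((fun w : Z i => pullback.snd sX sY w.1) ⁻¹' {y}) :=
    e.sets (by rfl)
  have hfib : ∀ y : Y, topologicalKrullDim ↥(g.fiber y) = d := fun y => by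
    rw [(g.fiberHomeo y).isHomeomorph.topologicalKrullDim_eq, (φ y).isHomeomorph.topologicalKrullDim_eq,
      ← hZd i y]
    let ψ : ↥((fun w : Z i => pullback.snd sX sY w.1) ⁻¹' {y}) ≃ₜ ↥(Z i ∩ pullback.snd sX sY ⁻¹' {y}) :=
      { toFun := fun v => ⟨v.1.1, v.1.2, v.2⟩
        invFun := fun v => ⟨⟨v.1, v.2.1⟩, v.2.2⟩
        left_inv := fun v => rfl
        right_inv := fun v => rfl
        continuous_toFun := by fun_prop
        continuous_invFun := by fun_prop }
    exact ψ.isHomeomorph.topologicalKrullDim_eq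
  have hdim : ∀ a, FlatMor.fibreDimAt g a = d := fun a =>
    le_antisymm ((iInf_le_of_le ⟨⊤, trivial⟩ (topologicalKrullDim_subspace_le _ _)).trans (hfib _).le)
      ((hfib _).ge.trans (Groth.Agent.S3388.result g a))
  haveI : UniversallyOpen g := Groth.Agent.S2568.result
    (fun y => by haveI := (hN y).1; haveI := (hN y).2; exact Groth.Agent.S9812.result _)
    g (fun a => (hdim a).trans (hfib _).symm)
  refine ⟨fun O hO => ?_, fun v => ?_⟩
  · have hO' := g.isOpenMap _ (hO.preimage e.continuous)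
    convert hO' using 1
    ext y
    constructor
    · rintro ⟨w, hw, rfl⟩
      exact ⟨e.symm w, by rwa [mem_preimage, e.apply_symm_apply], by rw [← he, e.apply_symm_apply]⟩
    · rintro ⟨a, ha, rfl⟩
      exact ⟨e a, ha, rfl⟩
  · obtain ⟨a, rfl⟩ := e.surjective v
    haveI := FibreDimEt.quasiSober_fibre g (g a)
    haveI : QuasiSober ↥((fun w : Z i => pullback.snd sX sY w.1) ⁻¹' {g a}) :=
      (φ (g a)).symm.isClosedEmbedding.quasiSober
    have h := hdim a
    rw [FibreDimEt.fibreDimAt_eq_localDim g a rfl] at h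
    exact (h.symm.trans (FibreDimEt.localDim_eq_of_isGenLift
      (FibreDimEt.isGenLift_of_isOpenEmbedding (φ (g a)).isOpenEmbedding) (φ (g a)).isOpenMap ⟨a, rfl⟩)).le

theorem main [IsIntegral X] [IsProper sX] [IsIntegral Y] [IsProper sY] (hN : Pi1.IsNormalScheme Y)
    (d : ℕ) {n : ℕ} (Z : Fin n → Set ↥(pullback sX sY))
    (hZc : ∀ i, IsClosed (Z i)) (hZi : ∀ i, IsIrreducible (Z i))
    (hZs : ∀ i, (pullback.snd sX sY).base '' Z i = Set.univ)
    (hZd : ∀ i (y : Y), topologicalKrullDim ↥(Z i ∩ (pullback.snd sX sY).base ⁻¹' {y}) = d)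
    (B : Set Y) (hB : IsClosed B) (hBc : _root_.IsPreconnected B)
    (hFd : topologicalKrullDim
        ↥((pullback.fst sX sY).base '' ((⋃ i, Z i) ∩ (pullback.snd sX sY).base ⁻¹' B)) = d) :
    (⋃ i, Z i) ∩ (pullback.snd sX sY).base ⁻¹' B =
      (pullback.fst sX sY).base ⁻¹'
          ((pullback.fst sX sY).base '' ((⋃ i, Z i) ∩ (pullback.snd sX sY).base ⁻¹' B)) ∩
        (pullback.snd sX sY).base ⁻¹' B := by
  classical
  set p := pullback.fst sX sY with hpdef
  set q := pullback.snd sX sY with hqdef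
  refine Subset.antisymm (fun z hz => ⟨⟨z, hz, rfl⟩, hz.2⟩) (fun z hz => ⟨?_, hz.2⟩)
  haveI : JacobsonSpace ↥(pullback sX sY) := LocallyOfFiniteType.jacobsonSpace (p ≫ sX)
  haveI : JacobsonSpace ↥X := LocallyOfFiniteType.jacobsonSpace sX
  haveI : JacobsonSpace ↥Y := LocallyOfFiniteType.jacobsonSpace sY
  haveI : IsLocallyNoetherian X := LocallyOfFiniteType.isLocallyNoetherian sX
  haveI : CompactSpace ↥X := QuasiCompact.compactSpace_of_compactSpace sX
  haveI : AlgebraicGeometry.IsNoetherian X := AlgebraicGeometry.IsNoetherian.mk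
  haveI : IsLocallyNoetherian (pullback sX sY) := LocallyOfFiniteType.isLocallyNoetherian (p ≫ sX)
  haveI : CompactSpace ↥(pullback sX sY) := QuasiCompact.compactSpace_of_compactSpace (p ≫ sX)
  haveI : AlgebraicGeometry.IsNoetherian (pullback sX sY) := AlgebraicGeometry.IsNoetherian.mk
  obtain ⟨x₁, -, hx₁⟩ := nonempty_inter_closedPoints (X := X) (Z := univ) univ_nonempty isClosed_univ.isLocallyClosed
  let s : X → Y → ↥(pullback sX sY) := fun x y =>
    if hx : IsClosed ({x} : Set X) then secY sX sY x hx y else secY sX sY x₁ hx₁ y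
  have hs : ∀ x (hx : IsClosed ({x} : Set X)) y (hy : IsClosed ({y} : Set Y)),
      s x y = pair sX sY x hx y hy (IsLocalRing.closedPoint k) := fun x hx y hy => by
    simp only [s, dif_pos hx, secY_apply sX sY x hx y hy]
  refine subset_of_rigid p q p.continuous q.continuous s (fun x hx => ?_)
    (fun x y hx hy => by rw [hs x hx y hy]; exact pair_fst_snd sX sY x hx y hy)
    (fun w hw => ?_) Z hZc d ?_ B hB hBc
    (p.isClosedMap _ ((isClosed_iUnion_of_finite hZc).inter (hB.preimage q.continuous))) hFd.le ?_ hz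
  · simp only [s, dif_pos hx]
    exact (secY sX sY x hx).continuous
  · obtain ⟨hx, hy, e⟩ := closed_decomp sX sY w hw
    exact ⟨hx, hy, (hs _ hx _ hy).trans e⟩
  · intro i O hO
    have : q '' (Z i ∩ O) = (fun w : Z i => q w.1) '' (Subtype.val ⁻¹' O) := by
      ext y; constructor
      · rintro ⟨w, ⟨h1, h2⟩, rfl⟩; exact ⟨⟨w, h1⟩, h2, rfl⟩
      · rintro ⟨⟨w, h1⟩, h2, rfl⟩; exact ⟨w, ⟨h1, h2⟩, rfl⟩
    rw [this]
    exact (openMap_and_dim sX sY hN d Z hZc hZi hZs hZd i).1 _ (hO.preimage continuous_subtype_val)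
  · intro i w hwi hwc
    obtain ⟨hx, hy, e⟩ := closed_decomp sX sY w hwc
    let T := ↥((fun v : Z i => q v.1) ⁻¹' {q w})
    obtain ⟨C, hC, hCirr, hwC, hCd⟩ := exists_irreducible_of_le_localDim (T := T) ⟨⟨w, hwi⟩, rfl⟩ d
      ((openMap_and_dim sX sY hN d Z hZc hZi hZs hZd i).2 ⟨w, hwi⟩)
    let j : T → ↥(pullback sX sY) := fun v => v.1.1
    have hjc : IsClosedEmbedding j :=
      ((hZc i).isClosedEmbedding_subtypeVal).comp
        ((hy.preimage (q.continuous.comp continuous_subtype_val)).isClosedEmbedding_subtypeVal)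
    obtain ⟨hr, -⟩ := range_secX sX sY (q w) hy
    let φ : T → ↥X := fun v => p (j v)
    have htj : ∀ v, secX sX sY (q w) hy (φ v) = j v := fun v => by
      obtain ⟨x, hxv⟩ : j v ∈ Set.range (secX sX sY (q w) hy) := hr ▸ v.2
      have : φ v = x := by
        show p (j v) = x
        rw [← hxv, ← Scheme.Hom.comp_apply, secX, pullback.lift_fst]
        rfl
      rw [this, hxv]
    have hφc : Continuous φ := p.continuous.comp hjc.continuous
    refine ⟨φ '' C, ?_, hCirr.image φ hφc.continuousOn, ⟨_, hwC, rfl⟩, hCd.trans ?_, ?_⟩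
    · rw [show φ '' C = p '' (j '' C) from (Set.image_image p j C).symm]
      exact p.isClosedMap _ (hjc.isClosedMap _ hC)
    · let g : ↥C → ↥(φ '' C) := fun v => ⟨φ v.1, v.1, v.2, rfl⟩
      have hφi : IsInducing φ := by
        refine IsInducing.of_comp hφc (secX sX sY (q w) hy).continuous ?_
        rw [show secX sX sY (q w) hy ∘ φ = j from funext htj]
        exact hjc.isInducing
      have hg : IsInducing g := by
        refine IsInducing.of_comp (by fun_prop) continuous_subtype_val ?_
        show IsInducing (φ ∘ (Subtype.val : ↥C → T))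
        exact hφi.comp IsInducing.subtypeVal
      exact hg.topologicalKrullDim_le
    · rintro _ ⟨v, hv, rfl⟩ hvc
      rw [hs _ hvc _ hy, ← secX_apply sX sY _ hvc _ hy, htj]
      exact v.1.2
end Groth.Agent.CycRigidLib
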